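import Mathlib
import Cfsg.Agent.Lib.Helper14.OCls.Defs
import Cfsg.Agent.Lib.Helper40.GUPrimeOrder

set_option autoImplicit false

/-! Project OCLS (S2673-S2675), package [EXODDB]: the hyperbolic double. -/

namespace Cfsg.Agent.Lib.Helper27.OCls

open Matrix Polynomial Cfsg.Agent.Lib.Helper40.PrimeOrderGL Cfsg.Agent.Lib.Helper40.DualPoly
  Cfsg.Agent.Lib.Helper40.GUPrimeOrder Cfsg.Agent.Lib.Helper14.OCls

universe u

/-- Package [EXODDB]. -/
theorem pkgExOddB : PkgExOddB.{u} := by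
  intro F _ _ _ p _ _ S r b hS hr hrF dg hdg hne m a ha hle
  classical
  have h0 : ∀ π ∈ S, π.coeff 0 ≠ 0 := by
    intro π hπ h
    have h1 := hS.dvd π hπ
    have h2 : (X : F[X]) ∣ π := by rw [X_dvd_iff]; exact h
    have h3 := eval_dvd (x := (0 : F)) (h2.trans h1)
    simp [hr.ne_zero] at h3
  have hdd : ∀ π, dg (dg π) = π := by
    intro π
    apply Subtype.ext
    rw [hdg, hdg]
    exact dual_dual (RingHom.id F) (fun _ => rfl) π.1 (hS.monic π.1 π.2) (h0 π.1 π.2)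
  let e : S ≃ S := ⟨dg, dg, hdd, hdd⟩
  let P : S → Prop := fun x => Fintype.equivFin S x < Fintype.equivFin S (dg x)
  have hP : ∀ x, P (dg x) ↔ ¬ P x := by
    intro x
    show Fintype.equivFin S (dg x) < Fintype.equivFin S (dg (dg x)) ↔
      ¬ (Fintype.equivFin S x < Fintype.equivFin S (dg x))
    rw [hdd]
    have hne' : Fintype.equivFin S (dg x) ≠ Fintype.equivFin S x :=
      fun h => hne x ((Fintype.equivFin S).injective h)
    constructor
    · intro h1 h2; exact lt_asymm h1 h2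
    · intro h1; exact lt_of_le_of_ne (not_lt.1 h1) hne'
  let a' : S → ℕ := fun π => if P π then a π else 0
  have hsplit : ∀ π, a π = a' π + a' (dg π) := by
    intro π
    by_cases hπ : P π
    · have h1 : ¬ P (dg π) := fun h => (hP π).1 h hπ
      simp [a', hπ, h1]
    · have h1 : P (dg π) := (hP π).2 hπ
      simp [a', hπ, h1, ha]
  have hsum : ∑ π, a π = 2 * ∑ π, a' π := by
    have h1 : ∑ π, a' (dg π) = ∑ π, a' π := Equiv.sum_comp e a'
    calc ∑ π, a π = ∑ π, (a' π + a' (dg π)) := Finset.sum_congr rfl (fun π _ => hsplit π)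
      _ = ∑ π, a' π + ∑ π, a' (dg π) := Finset.sum_add_distrib
      _ = 2 * ∑ π, a' π := by rw [h1]; ring
  have hle' : b * ∑ π, a' π ≤ m := by
    rw [hsum] at hle
    have h1 : 2 * (b * ∑ π, a' π) ≤ 2 * m := by
      calc 2 * (b * ∑ π, a' π) = b * (2 * ∑ π, a' π) := by ring
        _ ≤ 2 * m := hle
    omega
  obtain ⟨B, hBr, hBc⟩ := exists_GL_chi (n := m) p hS hr.pos a' hle'
  obtain ⟨Bm, hBm⟩ : ∃ Bm : Matrix (Fin m) (Fin m) F, Bm = (B : Matrix (Fin m) (Fin m) F) :=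
    ⟨_, rfl⟩
  obtain ⟨Bi, hBi⟩ : ∃ Bi : Matrix (Fin m) (Fin m) F,
      Bi = ((B⁻¹ : GL (Fin m) F) : Matrix (Fin m) (Fin m) F) := ⟨_, rfl⟩
  have hBBi : Bm * Bi = 1 := by
    rw [hBm, hBi, ← Units.val_mul, mul_inv_cancel, Units.val_one]
  have hBiB : Bi * Bm = 1 := by
    rw [hBm, hBi, ← Units.val_mul, inv_mul_cancel, Units.val_one]
  have hBmr : Bm ^ r = 1 := by
    rw [hBm, ← Units.val_pow_eq_pow_val, hBr, Units.val_one]
  have hBir : Bi ^ r = 1 := by
    rw [hBi, ← Units.val_pow_eq_pow_val, inv_pow, hBr, inv_one, Units.val_one]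
  rw [← hBm] at hBc
  refine ⟨fromBlocks Bm 0 0 Biᵀ, ?_, ?_, ?_⟩
  · rw [Matrix.fromBlocks_diagonal_pow, hBmr, ← transpose_pow, hBir, transpose_one,
      fromBlocks_one]
  · intro v
    unfold Cfsg.quadFormPlus
    rw [fromBlocks_mulVec]
    simp only [Sum.elim_inl, Sum.elim_inr, Matrix.zero_mulVec, add_zero, zero_add]
    have h1 : ∑ i, (Bm *ᵥ (v ∘ Sum.inl)) i * (Biᵀ *ᵥ (v ∘ Sum.inr)) i =
        (Bm *ᵥ (v ∘ Sum.inl)) ⬝ᵥ (Biᵀ *ᵥ (v ∘ Sum.inr)) := rfl
    have h2 : ∑ i, v (Sum.inl i) * v (Sum.inr i) = (v ∘ Sum.inl) ⬝ᵥ (v ∘ Sum.inr) := rfl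
    rw [h1, h2, mulVec_transpose, dotProduct_comm, ← dotProduct_mulVec, mulVec_mulVec, hBiB,
      one_mulVec, dotProduct_comm]
  · rw [Matrix.charpoly_fromBlocks_zero₁₂, Matrix.charpoly_transpose, charpoly_inv_eq Bm Bi hBBi]
    have h3 : C (Bm.charpoly.coeff 0)⁻¹ * Bm.charpoly.reverse =
        dual (RingHom.id F) Bm.charpoly := by
      unfold dual
      simp [Polynomial.map_id]
    rw [h3, hBc, dual_chi (RingHom.id F) dg hdd hdg a' _]
    unfold chi
    have hk : 2 * m - b * ∑ π, a π = (m - b * ∑ π, a' π) + (m - b * ∑ π, a' π) := by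
      rw [hsum]
      have h4 : b * (2 * ∑ π, a' π) = 2 * (b * ∑ π, a' π) := by ring
      rw [h4]
      omega
    have hprod : ∏ π : S, π.1 ^ a π = (∏ π : S, π.1 ^ a' π) * ∏ π : S, π.1 ^ a' (dg π) := by
      rw [← Finset.prod_mul_distrib]
      apply Finset.prod_congr rfl
      intro π _
      rw [← pow_add, ← hsplit]
    rw [hk, pow_add, hprod]
    ring

end Cfsg.Agent.Lib.Helper27.OCls
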